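import Groth.Agent.Lib.AssFib.Basic
import Groth.Agent.Lib.AssPts.Flat
import Groth.Agent.Lib.FBase7.Alg
import Groth.Prelude.Def_FDesc
import Mathlib

/-!
# Embedded primes and extension of the base field
-/

set_option autoImplicit false
set_option linter.style.haveILetI false
set_option backward.isDefEq.respectTransparency false
universe u

open CategoryTheory CategoryTheory.Limits AlgebraicGeometry TensorProduct

namespace GrothLib.NoEmbBC

theorem mem_ass_iff_mem {A : Type u} [CommRing A] [IsNoetherianRing A] {M : Type u} [AddCommGroup M] [Module A M]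
    {p : Ideal A} : p ∈ FlatCA.ass A M ↔ p ∈ associatedPrimes A M := by
  show _ ↔ IsAssociatedPrime p M
  rw [isAssociatedPrime_iff, AssFib.mem_ass_iff]
  refine and_congr_right fun _ => exists_congr fun m => ?_
  rw [SetLike.ext_iff]
  simp [Submodule.mem_colon_singleton]

/-- No embedded associated primes. -/
def NoEmb (A : Type u) [CommRing A] : Prop := ∀ p ∈ associatedPrimes A A, p ∈ minimalPrimes A

theorem noEmb_of_ringEquiv {A B : Type u} [CommRing A] [CommRing B] [IsNoetherianRing A] [IsNoetherianRing B]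
    (e : A ≃+* B) (h : NoEmb A) : NoEmb B := by
  intro q hq
  obtain ⟨hqp, b, hb⟩ := AssFib.mem_ass_iff.1 (mem_ass_iff_mem.2 hq)
  have hp : q.comap e.toRingHom ∈ associatedPrimes A A := mem_ass_iff_mem.1
    (AssFib.mem_ass_iff.2 ⟨Ideal.IsPrime.comap _, e.symm b, fun s => by
      rw [Ideal.mem_comap, hb]
      constructor
      · intro h1
        apply e.injective
        simpa [smul_eq_mul] using h1
      · intro h1
        simpa [smul_eq_mul] using congrArg e h1⟩)
  have hmin := h _ hp
  refine ⟨⟨hqp, bot_le⟩, fun r hr hrq => ?_⟩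
  haveI := hr.1
  have hle := hmin.2 ⟨Ideal.IsPrime.comap (K := r) e.toRingHom, bot_le⟩ (Ideal.comap_mono hrq)
  intro x hx
  obtain ⟨a, rfl⟩ := e.surjective x
  exact hle hx

section Ring

variable {k : Type u} [Field k] (R : Type u) [CommRing R] [Algebra k R] [IsNoetherianRing R]
  (K : Type u) [Field K] [Algebra k K] [IsNoetherianRing (R ⊗[k] K)]

theorem isNoetherianRing_fiber (p : Ideal R) [p.IsPrime] :
    IsNoetherianRing (p.Fiber (R ⊗[k] K)) := by
  let ι : (R ⊗[k] K) →+* p.Fiber (R ⊗[k] K) :=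
    (Algebra.TensorProduct.includeRight (R := R) (A := p.ResidueField) (B := R ⊗[k] K)).toRingHom
  refine (isNoetherianRing_iff_ideal_fg _).2 fun I => ?_
  obtain ⟨G, hG⟩ := IsNoetherian.noetherian (I.comap ι)
  have hI : (I.comap ι).map ι = I := by
    refine le_antisymm Ideal.map_comap_le fun x hx => ?_
    obtain ⟨b, hb, t, ht⟩ := AssFib.exists_smul_fiber p x
    have ht' : t ∈ I.comap ι := by
      show ι t ∈ I
      rw [show ι t = ι (algebraMap R _ b) * x from ht.symm]
      exact I.mul_mem_left _ hx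
    have hu : IsUnit (ι (algebraMap R (R ⊗[k] K) b)) := by
      rw [show ι (algebraMap R (R ⊗[k] K) b) = algebraMap p.ResidueField (p.Fiber (R ⊗[k] K)) (algebraMap R p.ResidueField b) from
        ((Algebra.TensorProduct.includeRight (R := R) (A := p.ResidueField) (B := R ⊗[k] K)).commutes b).trans
          (IsScalarTower.algebraMap_apply R p.ResidueField _ b)]
      exact (IsUnit.mk0 _ (mt Ideal.algebraMap_residueField_eq_zero.1 hb)).map _
    refine (Ideal.unit_mul_mem_iff_mem _ hu).1 ?_
    rw [show ι (algebraMap R _ b) * x = ι t from ht]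
    exact Ideal.mem_map_of_mem ι ht'
  rw [← hI]
  exact Ideal.FG.map ⟨G, hG⟩ ι

attribute [local instance] Algebra.TensorProduct.rightAlgebra in
theorem noEmb_tensor_iff : NoEmb R ↔ NoEmb (R ⊗[k] K) := by
  classical
  let S := R ⊗[k] K
  constructor
  · intro h q hq
    haveI := hq.isPrime
    have hq' := mem_ass_iff_mem.2 hq
    let p := q.comap (algebraMap R S)
    -- `p` consists of zero divisors
    have hsub : (p : Set R) ⊆ ⋃ P ∈ associatedPrimes R R, (P : Set R) := fun a ha => by
      rw [biUnion_associatedPrimes_eq_compl_nonZeroDivisors, Set.mem_compl_iff, SetLike.mem_coe]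
      intro hnzd
      obtain ⟨-, z, hz⟩ := AssFib.mem_ass_iff.1 hq'
      have hreg : IsSMulRegular S a :=
        Module.IsTorsionFree.isSMulRegular (isRegular_iff_mem_nonZeroDivisors.mpr hnzd)
      have h0 : algebraMap R S a • z = 0 := (hz _).1 ha
      rw [algebraMap_smul] at h0
      have hz0 : z = 0 := hreg (h0.trans (smul_zero a).symm)
      exact hq.isPrime.ne_top ((Ideal.eq_top_iff_one q).2 ((hz 1).2 (by rw [hz0, smul_zero])))
    obtain ⟨P, hP, hpP⟩ := (Ideal.subset_union_prime ⊤ ⊤
      (fun P hP _ _ => ((associatedPrimes.finite R R).mem_toFinset.1 hP).isPrime)).1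
      (show (p : Set R) ⊆ ⋃ P ∈ ((associatedPrimes.finite R R).toFinset : Set (Ideal R)), ((id P : Ideal R) : Set R) by
        simpa using hsub)
    have hPmin := h P ((associatedPrimes.finite R R).mem_toFinset.1 hP)
    have hpeq : p = P := le_antisymm hpP (hPmin.2 ⟨inferInstance, bot_le⟩ hpP)
    have hpmin : p ∈ minimalPrimes R := hpeq ▸ hPmin
    have h1 : q ∈ FlatCA.ass S (S ⧸ (p.map (algebraMap R S)) • (⊤ : Submodule S S)) :=
      AssFib.mem_ass_quot_of_tensor S p R q rfl
        (AssFib.ass_mono (TensorProduct.AlgebraTensorModule.rid R S S).symm.toLinearMap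
          (TensorProduct.AlgebraTensorModule.rid R S S).symm.injective hq')
    obtain ⟨Q, hQ, hQq⟩ := AssFib.exists_lift_ass S p (AssFib.ass_quot_subset_of_flat S p h1)
    let T := p.Fiber S
    haveI : IsNoetherianRing T := isNoetherianRing_fiber R K p
    have hQ' : Q ∈ associatedPrimes T T := mem_ass_iff_mem.1
      (AssFib.ass_mono (TensorProduct.AlgebraTensorModule.rid S T T).toLinearMap
        (TensorProduct.AlgebraTensorModule.rid S T T).injective hQ)
    let e : T ≃ₐ[p.ResidueField] p.ResidueField ⊗[k] K :=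
      Algebra.TensorProduct.cancelBaseChange k R p.ResidueField p.ResidueField K
    haveI : IsNoetherianRing (p.ResidueField ⊗[k] K) := isNoetherianRing_of_ringEquiv T e.toRingEquiv
    have hT : NoEmb T := noEmb_of_ringEquiv e.symm.toRingEquiv FBase7.associatedPrimes_subset_minimalPrimes
    have hQmin := hT Q hQ'
    refine ⟨⟨inferInstance, bot_le⟩, fun q' hq'1 hle => ?_⟩
    haveI := hq'1.1
    have hc : q'.comap (algebraMap R S) = p :=
      le_antisymm (Ideal.comap_mono hle) (hpmin.2 ⟨inferInstance, bot_le⟩ (Ideal.comap_mono hle))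
    let pp : PrimeSpectrum R := ⟨p, inferInstance⟩
    let Φ := PrimeSpectrum.preimageOrderIsoFiber R S pp
    haveI := hQmin.1.1
    let QQ : PrimeSpectrum (pp.asIdeal.Fiber S) := ⟨Q, hQmin.1.1⟩
    let x' : (PrimeSpectrum.comap (algebraMap R S) ⁻¹' {pp} : Set _) := ⟨⟨q', inferInstance⟩, PrimeSpectrum.ext hc⟩
    have hsymm : (Φ.symm QQ).1.asIdeal = q := hQq
    have h2 : x' ≤ Φ.symm QQ := by
      show q' ≤ (Φ.symm QQ).1.asIdeal
      rw [hsymm]; exact hle
    have h3 : Φ x' ≤ QQ := by simpa using Φ.monotone h2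
    have h4 : QQ ≤ Φ x' := hQmin.2 ⟨(Φ x').2, bot_le⟩ h3
    have h5 : Φ x' = QQ := le_antisymm h3 h4
    have h6 : x' = Φ.symm QQ := by rw [← h5, OrderIso.symm_apply_apply]
    have h7 : q' = q := (congrArg (fun x => x.1.asIdeal) h6).trans hsymm
    exact h7.ge
  · intro h P hP
    haveI := hP.isPrime
    obtain ⟨⟨q₀, hq₀p⟩, hq₀⟩ := PrimeSpectrum.comap_surjective_of_faithfullyFlat (B := S) ⟨P, inferInstance⟩
    have hc₀ : q₀.comap (algebraMap R S) = P := congrArg PrimeSpectrum.asIdeal hq₀
    obtain ⟨q, hq, hqle⟩ := Ideal.exists_minimalPrimes_le (I := P.map (algebraMap R S)) (J := q₀)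
      (Ideal.map_le_iff_le_comap.2 hc₀.ge)
    haveI := hq.1.1
    have hqc : q.comap (algebraMap R S) = P :=
      le_antisymm ((Ideal.comap_mono hqle).trans hc₀.le) (Ideal.map_le_iff_le_comap.1 hq.1.2)
    have hq' : q ∈ (Module.annihilator S (S ⧸ (P.map (algebraMap R S)) • (⊤ : Submodule S S))).minimalPrimes := by
      rw [smul_eq_mul, Ideal.mul_top, Ideal.annihilator_quotient]
      exact hq
    have hass := mem_ass_iff_mem.2 (Module.associatedPrimes.minimalPrimes_annihilator_subset_associatedPrimes S _ hq')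
    have hS : q ∈ associatedPrimes S S := mem_ass_iff_mem.1
      (AssFib.ass_mono (TensorProduct.AlgebraTensorModule.rid R S S).toLinearMap
        (TensorProduct.AlgebraTensorModule.rid R S S).injective
        (AssFib.ass_tensor_of_ass_quot S P (mem_ass_iff_mem.2 hP) hass))
    have hmin := h q hS
    refine ⟨⟨inferInstance, bot_le⟩, fun P' hP'1 hle => ?_⟩
    haveI := hP'1.1
    haveI : q.LiesOver P := ⟨hqc.symm⟩
    obtain ⟨q', hq'le, hq'p, hq'o⟩ := Ideal.exists_ideal_le_liesOver_of_le (S := S) q hle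
    have := hmin.2 ⟨hq'p, bot_le⟩ hq'le
    rw [← hqc, hq'o.over]
    exact Ideal.comap_mono this

end Ring

section Scheme

variable {X : Scheme.{u}} [IsLocallyNoetherian X]

theorem mem_ass_iff_primeAt {V : X.Opens} (hV : IsAffineOpen V) {x : X} (hx : x ∈ V) :
    x ∈ AssSch.Ass (Coh.structureModule X) ↔ WeakAss.primeAt x hx ∈ associatedPrimes Γ(X, V) Γ(X, V) :=
  AssPts.ass_iff (Coh.structureModule X) hV hx

theorem noEmb_of_noEmbedded (h : AssSch.NoEmbedded (Coh.structureModule X)) {V : X.Opens} (hV : IsAffineOpen V) :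
    NoEmb Γ(X, V) := by
  haveI := IsLocallyNoetherian.component_noetherian ⟨V, hV⟩
  intro p hp
  haveI := hp.isPrime
  obtain ⟨x, hx, rfl⟩ := AssPts.exists_point hV p inferInstance
  obtain ⟨q, hq, hqp⟩ := Ideal.exists_minimalPrimes_le (I := (⊥ : Ideal Γ(X, V))) (J := WeakAss.primeAt x hx) bot_le
  have hqa : q ∈ associatedPrimes Γ(X, V) Γ(X, V) :=
    Module.associatedPrimes.minimalPrimes_annihilator_subset_associatedPrimes _ _
      (by rw [Module.annihilator_eq_bot.mpr inferInstance]; exact hq)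
  obtain ⟨y, hy, rfl⟩ := AssPts.exists_point hV q hq.1.1
  obtain rfl := h x ((mem_ass_iff_primeAt hV hx).2 hp) y ((mem_ass_iff_primeAt hV hy).2 hqa)
    ((AssPts.specializes_iff hV hy hx).2 hqp)
  exact hq

theorem noEmbedded_of_cover {ι : Type*} (V : ι → X.Opens) (hV : ∀ i, IsAffineOpen (V i))
    (hcov : ∀ x, ∃ i, x ∈ V i) (h : ∀ i, NoEmb Γ(X, V i)) : AssSch.NoEmbedded (Coh.structureModule X) := by
  intro x hx y hy hyx
  obtain ⟨i, hxi⟩ := hcov x
  have hyi : y ∈ V i := hyx.mem_open (V i).2 hxi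
  have hle := (AssPts.specializes_iff (hV i) hyi hxi).1 hyx
  exact AssPts.primeAt_injective (hV i) hxi hyi (le_antisymm
    ((h i _ ((mem_ass_iff_primeAt (hV i) hxi).1 hx)).2 ⟨inferInstance, bot_le⟩ hle) hle)

/-- The affine chart of the base change over an affine open. -/
theorem exists_chart {k K : Type u} [Field k] [Field K] [Algebra k K] (f : X ⟶ Spec (CommRingCat.of k))
    [IsLocallyNoetherian (pullback f (Spec.map (CommRingCat.ofHom (algebraMap k K))))]
    {V : X.Opens} (hV : IsAffineOpen V) [Algebra k Γ(X, V)]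
    (halg : hV.fromSpec ≫ f = Spec.map (CommRingCat.ofHom (algebraMap k Γ(X, V)))) :
    ∃ W : (pullback f (Spec.map (CommRingCat.ofHom (algebraMap k K)))).Opens, IsAffineOpen W ∧
      (∀ z, pullback.fst f (Spec.map (CommRingCat.ofHom (algebraMap k K))) z ∈ V → z ∈ W) ∧
      Nonempty ((Γ(X, V) ⊗[k] K) ≃+* Γ(pullback f (Spec.map (CommRingCat.ofHom (algebraMap k K))), W)) := by
  haveI := hV.isOpenImmersion_fromSpec
  let g := Spec.map (CommRingCat.ofHom (algebraMap k K))
  let κ : pullback (Spec.map (CommRingCat.ofHom (algebraMap k Γ(X, V)))) g ⟶ pullback f g :=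
    pullback.map _ _ _ _ hV.fromSpec (𝟙 _) (𝟙 _) (by rw [Category.comp_id]; exact halg.symm) (by simp)
  have hrange : Set.range κ = pullback.fst f g ⁻¹' Set.range hV.fromSpec ∩ pullback.snd f g ⁻¹' Set.range (𝟙 (Spec (CommRingCat.of K)) : _ ⟶ _) :=
    Scheme.Pullback.range_map _ _ _ _ _ _ _ _ _
  haveI : IsOpenImmersion κ := inferInstance
  let j := (pullbackSpecIso k Γ(X, V) K).inv ≫ κ
  haveI : IsOpenImmersion j := inferInstance
  refine ⟨j.opensRange, isAffineOpen_opensRange j, fun z hz => ?_, ⟨?_⟩⟩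
  · obtain ⟨w, rfl⟩ : z ∈ Set.range κ := hrange ▸ ⟨hV.range_fromSpec.symm ▸ hz, ⟨_, rfl⟩⟩
    refine ⟨(pullbackSpecIso k Γ(X, V) K).hom w, ?_⟩
    have e : (pullbackSpecIso k Γ(X, V) K).hom ≫ j = κ := Iso.hom_inv_id_assoc _ _
    show j ((pullbackSpecIso k Γ(X, V) K).hom w) = κ w
    exact congrArg (fun m => m w) e
  · exact ((Scheme.ΓSpecIso _).symm ≪≫ (j.appIso ⊤).symm ≪≫
      (pullback f g).presheaf.mapIso (eqToIso j.image_top_eq_opensRange.symm).op).commRingCatIsoToRingEquiv

theorem noEmbedded_baseChange_iff {k K : Type u} [Field k] [Field K] [Algebra k K]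
    (f : X ⟶ Spec (CommRingCat.of k))
    [IsLocallyNoetherian (pullback f (Spec.map (CommRingCat.ofHom (algebraMap k K))))] :
    AssSch.NoEmbedded (Coh.structureModule X) ↔
      AssSch.NoEmbedded (Coh.structureModule (pullback f (Spec.map (CommRingCat.ofHom (algebraMap k K))))) := by
  let g := Spec.map (CommRingCat.ofHom (algebraMap k K))
  letI alg : ∀ V : X.affineOpens, Algebra k Γ(X, (V : X.Opens)) := fun V =>
    (Spec.preimage (V.2.fromSpec ≫ f)).hom.toAlgebra
  have halg : ∀ V : X.affineOpens, V.2.fromSpec ≫ f = Spec.map (CommRingCat.ofHom (algebraMap k Γ(X, (V : X.Opens)))) :=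
    fun V => (Spec.map_preimage _).symm
  choose W hW hWmem hWe using fun V : X.affineOpens => exists_chart (K := K) f V.2 (halg V)
  haveI hN : ∀ V : X.affineOpens, IsNoetherianRing Γ(X, (V : X.Opens)) := fun V =>
    IsLocallyNoetherian.component_noetherian V
  haveI hN' : ∀ V : X.affineOpens, IsNoetherianRing Γ(pullback f g, W V) := fun V =>
    IsLocallyNoetherian.component_noetherian ⟨W V, hW V⟩
  haveI hN'' : ∀ V : X.affineOpens, IsNoetherianRing (Γ(X, (V : X.Opens)) ⊗[k] K) := fun V =>
    isNoetherianRing_of_ringEquiv _ (hWe V).some.symm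
  have hcov : ∀ x : X, ∃ V : X.affineOpens, x ∈ (V : X.Opens) := fun x => by
    obtain ⟨V, hV, hxV, -⟩ := exists_isAffineOpen_mem_and_subset (x := x) (U := (⊤ : X.Opens)) (TopologicalSpace.Opens.mem_top x)
    exact ⟨⟨V, hV⟩, hxV⟩
  constructor
  · intro h
    refine noEmbedded_of_cover W hW (fun z => ?_) fun V => noEmb_of_ringEquiv (hWe V).some
      ((noEmb_tensor_iff _ K).1 (noEmb_of_noEmbedded h V.2))
    obtain ⟨V, hxV⟩ := hcov (pullback.fst f g z)
    exact ⟨V, hWmem V z hxV⟩
  · intro h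
    exact noEmbedded_of_cover (fun V : X.affineOpens => (V : X.Opens)) (fun V => V.2) hcov fun V =>
      (noEmb_tensor_iff _ K).2 (noEmb_of_ringEquiv (hWe V).some.symm (noEmb_of_noEmbedded h (hW V)))

end Scheme

end GrothLib.NoEmbBC
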